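import Cfsg.Agent.H813.S4790.Idem

/-!
# S4790, T3: the frame (helper813)
-/

set_option autoImplicit false
set_option linter.style.haveILetI false

namespace Cfsg.Agent.H813.S4790

open Cfsg.Agent.H717.FieldOf Cfsg.Agent.H697.Alm Cfsg.Agent.H698.Idem

universe u v w

variable {D : Type v} {E : Type u} [Group D] [AddCommGroup E] [DistribMulAction D E]

section field

variable {F : Type w} [Field F] [Module F E]

/-- the linear map of an element of `CF` -/
def lin (E : Type u) (F : Type w) [AddCommGroup E] [DistribMulAction D E] [Field F] [Module F E] {n : D}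
    (hn : n ∈ CF D E F) : Module.End F E where
  toFun e := n • e
  map_add' := smul_add n
  map_smul' c e := hn c e

theorem lin_mem {N : Subgroup D} {n : D} (hn : n ∈ CF D E F) (hnN : n ∈ N) : lin E F hn ∈ alg E F N :=
  Algebra.subset_adjoin ⟨n, hnN, fun _ => rfl⟩

/-- the ring generated by a finite group of invertible order is semisimple -/
theorem semisimple_alg [Finite D] (N : Subgroup D) (hN : N ≤ CF D E F) [NeZero (Nat.card N : F)] :
    IsSemisimpleRing (alg E F N) := by
  let ρ : N →* alg E F N :=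
    { toFun := fun n => ⟨lin E F (hN n.2), lin_mem (hN n.2) n.2⟩
      map_one' := Subtype.ext (LinearMap.ext fun e => one_smul D e)
      map_mul' := fun a b => Subtype.ext (LinearMap.ext fun e => mul_smul (a : D) (b : D) e) }
  let f : MonoidAlgebra F N →ₐ[F] alg E F N := MonoidAlgebra.lift F (alg E F N) N ρ
  have hρ : ∀ n : N, f (MonoidAlgebra.of F N n) = ρ n := fun n => MonoidAlgebra.lift_of ρ n
  have hsurj : Function.Surjective f := by
    rintro ⟨x, hx⟩
    have h1 : alg E F N ≤ ((alg E F N).val.comp f).range := by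
      refine Algebra.adjoin_le ?_
      rintro g ⟨n, hn, hg⟩
      refine ⟨MonoidAlgebra.of F N ⟨n, hn⟩, ?_⟩
      change ((f (MonoidAlgebra.of F N ⟨n, hn⟩) : alg E F N) : Module.End F E) = g
      rw [hρ]
      exact LinearMap.ext fun e => (hg e).symm
    obtain ⟨y, hy⟩ := h1 hx
    exact ⟨y, Subtype.ext hy⟩
  exact RingHom.isSemisimpleRing_of_surjective (f : MonoidAlgebra F N →+* alg E F N) hsurj

/-- the algebra is normalised -/
theorem alg_conj (hnorm : ∀ (d : D) (c : F), ∃ c' : F, ∀ e : E, d • (c • e) = c' • (d • e)) {N : Subgroup D}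
    [hNn : N.Normal] (hN : N ≤ CF D E F) (d : D) {x : Module.End F E} (hx : x ∈ alg E F N) :
    ∃ y ∈ alg E F N, ∀ e : E, y e = d • x (d⁻¹ • e) := by
  unfold alg at hx
  induction hx using Algebra.adjoin_induction with
  | mem g hg =>
    obtain ⟨n, hn, hg⟩ := hg
    have h1 : d * n * d⁻¹ ∈ N := hNn.conj_mem n hn d
    refine ⟨lin E F (hN h1), lin_mem (hN h1) h1, fun e => ?_⟩
    change (d * n * d⁻¹) • e = d • g (d⁻¹ • e)
    rw [hg, mul_smul, mul_smul]
  | algebraMap c =>
    obtain ⟨c', hc'⟩ := hnorm d c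
    refine ⟨algebraMap F _ c', Subalgebra.algebraMap_mem _ _, fun e => ?_⟩
    change c' • e = d • (c • (d⁻¹ • e))
    rw [hc', smul_inv_smul]
  | add a b _ _ ha hb =>
    obtain ⟨a', ha', ha⟩ := ha
    obtain ⟨b', hb', hb⟩ := hb
    refine ⟨a' + b', add_mem ha' hb', fun e => ?_⟩
    change a' e + b' e = d • (a (d⁻¹ • e) + b (d⁻¹ • e))
    rw [ha, hb, smul_add]
  | mul a b _ _ ha hb =>
    obtain ⟨a', ha', ha⟩ := ha
    obtain ⟨b', hb', hb⟩ := hb
    refine ⟨a' * b', mul_mem ha' hb', fun e => ?_⟩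
    change a' (b' e) = d • (a (b (d⁻¹ • e)))
    rw [ha, hb, inv_smul_smul]

/-- as additive endomorphisms -/
def tau (E : Type u) (F : Type w) [AddCommGroup E] [Field F] [Module F E] : Module.End F E →+* AddMonoid.End E :=
  Module.toAddMonoidEnd (Module.End F E) E

theorem tau_apply (x : Module.End F E) (e : E) : tau E F x e = x e := rfl

theorem tau_injective : Function.Injective (tau E F) := by
  intro x y h
  exact LinearMap.ext fun e => DFunLike.congr_fun h e

/-- the centre -/
def cent (E : Type u) (F : Type w) [AddCommGroup E] [DistribMulAction D E] [Field F] [Module F E] (N : Subgroup D) :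
    Subring (AddMonoid.End E) :=
  ((alg E F N).toSubring ⊓ Subring.centralizer (alg E F N : Set (Module.End F E))).map (tau E F)

theorem mem_cent {N : Subgroup D} {r : AddMonoid.End E} :
    r ∈ cent E F N ↔ ∃ x : Module.End F E, x ∈ alg E F N ∧ (∀ y ∈ alg E F N, y * x = x * y) ∧ tau E F x = r := by
  unfold cent
  rw [Subring.mem_map]
  constructor
  · rintro ⟨x, ⟨h1, h2⟩, h3⟩
    exact ⟨x, h1, fun y hy => (Subring.mem_centralizer_iff.1 h2) y hy, h3⟩
  · rintro ⟨x, h1, h2, h3⟩
    exact ⟨x, ⟨h1, Subring.mem_centralizer_iff.2 h2⟩, h3⟩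

theorem cent_comm {N : Subgroup D} {r s : AddMonoid.End E} (hr : r ∈ cent E F N) (hs : s ∈ cent E F N) :
    r * s = s * r := by
  obtain ⟨x, h1, h2, rfl⟩ := mem_cent.1 hr
  obtain ⟨y, h4, h5, rfl⟩ := mem_cent.1 hs
  rw [← map_mul, ← map_mul, h2 y h4]

theorem cent_cj (hnorm : ∀ (d : D) (c : F), ∃ c' : F, ∀ e : E, d • (c • e) = c' • (d • e)) {N : Subgroup D}
    [hNn : N.Normal] (hN : N ≤ CF D E F) (d : D) {r : AddMonoid.End E} (hr : r ∈ cent E F N) :
    cj E d r ∈ cent E F N := by
  obtain ⟨x, h1, h2, rfl⟩ := mem_cent.1 hr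
  obtain ⟨y, hy, hyx⟩ := alg_conj hnorm hN d h1
  refine mem_cent.2 ⟨y, hy, fun z hz => ?_, ?_⟩
  · obtain ⟨z', hz', hzz⟩ := alg_conj hnorm hN d⁻¹ hz
    refine LinearMap.ext fun e => ?_
    change z (y e) = y (z e)
    rw [hyx, hyx]
    have h3 := LinearMap.congr_fun (h2 z' hz') (d⁻¹ • e)
    change z' (x (d⁻¹ • e)) = x (z' (d⁻¹ • e)) at h3
    rw [hzz, hzz, inv_inv, smul_inv_smul] at h3
    rw [← h3, smul_inv_smul]
  · refine AddMonoidHom.ext fun e => ?_
    exact hyx e

theorem cent_reduced [Finite D] {N : Subgroup D} (hN : N ≤ CF D E F) [NeZero (Nat.card N : F)]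
    {r : AddMonoid.End E} (hr : r ∈ cent E F N) (h0 : r * r = 0) : r = 0 := by
  have hss := semisimple_alg N hN
  obtain ⟨x, h1, h2, rfl⟩ := mem_cent.1 hr
  rw [← map_mul] at h0
  have h3 : x * x = 0 := tau_injective (h0.trans (map_zero _).symm)
  have h4 : (⟨x, h1⟩ : alg E F N) = 0 :=
    eq_zero_of_central_sq (fun y => Subtype.ext (h2 y y.2).symm) (Subtype.ext h3)
  have h5 : x = 0 := congrArg Subtype.val h4
  rw [h5, map_zero]

/-- central simplicity, from the centre -/
theorem csa_of_cen [Finite D] {N : Subgroup D} (hN : N ≤ CF D E F) [NeZero (Nat.card N : F)]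
    (hcen : ∀ x ∈ alg E F N, (∀ y ∈ alg E F N, x * y = y * x) → ∃ c : F, x = c • (1 : Module.End F E)) :
    CSA (alg E F N) := by
  have hss := semisimple_alg N hN
  refine ⟨hcen, fun x hx hx0 => ?_⟩
  let J : Submodule F (Module.End F E) := Submodule.span F {y | ∃ l ∈ alg E F N, ∃ r ∈ alg E F N, y = l * x * r}
  have hJl : ∀ a ∈ alg E F N, ∀ y ∈ J, a * y ∈ J := by
    intro a ha y hy
    induction hy using Submodule.span_induction with
    | mem y hy =>
      obtain ⟨l, hl, r, hr, rfl⟩ := hy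
      exact Submodule.subset_span ⟨a * l, mul_mem ha hl, r, hr, by simp only [mul_assoc]⟩
    | zero => rw [mul_zero]; exact J.zero_mem
    | add y z _ _ hy hz => rw [mul_add]; exact J.add_mem hy hz
    | smul c y _ hy => rw [mul_smul_comm]; exact J.smul_mem c hy
  have hJr : ∀ a ∈ alg E F N, ∀ y ∈ J, y * a ∈ J := by
    intro a ha y hy
    induction hy using Submodule.span_induction with
    | mem y hy =>
      obtain ⟨l, hl, r, hr, rfl⟩ := hy
      exact Submodule.subset_span ⟨l, hl, r * a, mul_mem hr ha, by simp only [mul_assoc]⟩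
    | zero => rw [zero_mul]; exact J.zero_mem
    | add y z _ _ hy hz => rw [add_mul]; exact J.add_mem hy hz
    | smul c y _ hy => rw [smul_mul_assoc]; exact J.smul_mem c hy
  let I : Ideal (alg E F N) :=
    { carrier := {y | (y : Module.End F E) ∈ J}
      add_mem' := fun {a b} ha hb => J.add_mem ha hb
      zero_mem' := J.zero_mem
      smul_mem' := fun a y hy => hJl a a.2 y hy }
  have hI : ∀ y : alg E F N, y ∈ I ↔ (y : Module.End F E) ∈ J := fun _ => Iff.rfl
  have h1 : (1 : alg E F N) ∈ I := by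
    refine one_mem_of_semisimple ?_ I (fun y hy r => hJr r r.2 y hy) ?_
    · intro e he hec
      obtain ⟨c, hc⟩ := hcen e e.2 (fun y hy => congrArg Subtype.val (hec ⟨y, hy⟩))
      by_cases h0 : (1 : Module.End F E) = 0
      · left
        apply Subtype.ext
        rw [hc, h0, smul_zero]
        rfl
      have h2 : (e : Module.End F E) * e = e := congrArg Subtype.val he.eq
      rw [hc, smul_mul_smul_comm, mul_one, ← sub_eq_zero, ← sub_smul, smul_eq_zero] at h2
      have h3 : c * c - c = 0 := h2.resolve_right h0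
      have h4 : c * (c - 1) = 0 := by linear_combination h3
      rcases mul_eq_zero.1 h4 with h5 | h5
      · left
        apply Subtype.ext
        rw [hc, h5, zero_smul]
        rfl
      · right
        apply Subtype.ext
        rw [hc, sub_eq_zero.1 h5, one_smul]
        rfl
    · intro hbot
      have h2 : (⟨x, hx⟩ : alg E F N) ∈ I :=
        Submodule.subset_span ⟨1, one_mem _, 1, one_mem _, by rw [one_mul, mul_one]⟩
      rw [hbot] at h2
      exact hx0 (congrArg Subtype.val (Submodule.mem_bot _ |>.1 h2))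
  exact h1

end field

theorem not_dvd_of_smul {p : ℕ} (hp : p.Prime) (hpE : ∀ e : E, p • e = 0) {n : ℕ} (hn : ¬ p ∣ n) {e : E}
    (h : n • e = 0) : e = 0 := by
  by_contra he
  have h1 : addOrderOf e ∣ p := addOrderOf_dvd_of_nsmul_eq_zero (hpE e)
  rcases (Nat.dvd_prime hp).1 h1 with h2 | h2
  · exact he (AddMonoid.addOrderOf_eq_one_iff.1 h2)
  · exact hn (h2 ▸ addOrderOf_dvd_of_nsmul_eq_zero h)

/-- **S4790, T3** -/
theorem exists_frame {D E : Type u} [Group D] [Finite D] [AddCommGroup E] [Finite E] [Nontrivial E]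
    [DistribMulAction D E] [FaithfulSMul D E] {p : ℕ} (hp : p.Prime) (hpE : ∀ e : E, p • e = 0)
    (hcop : ¬ p ∣ Nat.card D) (hirr : IrrAct D E) (hprim : Prim D E) :
    ∃ (F : Type u) (_ : Field F) (_ : Finite F) (_ : Module F E), Fr D E F := by
  have hfin : Finite (AddMonoid.End E) := finite_end
  have hfin' : Finite (Subring (AddMonoid.End E)) :=
    Finite.of_injective (fun K : Subring (AddMonoid.End E) => (K : Set (AddMonoid.End E))) SetLike.coe_injective
  obtain ⟨x₀, hx₀⟩ := exists_ne (0 : E)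
  -- a maximal normalised field
  let 𝒦 : Set (Subring (AddMonoid.End E)) := {K | (∀ a ∈ K, ∀ b ∈ K, a * b = b * a) ∧
    (∀ (d : D), ∀ b ∈ K, cj E d b ∈ K) ∧ ∀ r ∈ K, ∀ v : E, v ≠ 0 → r v = 0 → r = 0}
  have hbot : (⊥ : Subring (AddMonoid.End E)) ∈ 𝒦 := by
    refine ⟨?_, ?_, ?_⟩
    · intro a ha b _
      obtain ⟨m, rfl⟩ := Subring.mem_bot.1 ha
      exact (Int.cast_commute m b).eq
    · intro d b hb
      obtain ⟨m, rfl⟩ := Subring.mem_bot.1 hb
      rw [map_intCast]
      exact intCast_mem _ m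
    · intro r hr v hv hrv
      obtain ⟨m, rfl⟩ := Subring.mem_bot.1 hr
      have h1 : m • v = 0 := hrv
      have h2 : m.natAbs • v = 0 := by
        rcases Int.natAbs_eq m with h3 | h3
        · rw [h3, natCast_zsmul] at h1; exact h1
        · rw [h3, neg_smul, natCast_zsmul, neg_eq_zero] at h1; exact h1
      have h3 : p ∣ m.natAbs := by
        by_contra h4
        exact hv (not_dvd_of_smul hp hpE h4 h2)
      obtain ⟨c, hc⟩ := Int.natCast_dvd.2 h3
      refine AddMonoidHom.ext fun w => ?_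
      change m • w = 0
      rw [hc, mul_comm, mul_smul, natCast_zsmul, hpE, smul_zero]
  obtain ⟨K, hK⟩ := (Set.toFinite 𝒦).exists_maximal ⟨⊥, hbot⟩
  obtain ⟨hKc, hKd, hKi⟩ := hK.prop
  let F : Type u := K
  letI : CommRing K := { (inferInstance : Ring K) with
    mul_comm := fun a b => Subtype.ext (hKc a a.2 b b.2) }
  haveI : Nontrivial K := ⟨⟨0, 1, by
    intro h
    have h2 : (0 : AddMonoid.End E) = 1 := congrArg Subtype.val h
    have h3 := DFunLike.congr_fun h2 x₀
    exact hx₀ h3.symm⟩⟩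
  haveI : NoZeroDivisors K := ⟨by
    intro a b hab
    by_contra hne
    rw [not_or] at hne
    have hb : ∃ y : E, (b : AddMonoid.End E) y ≠ 0 := by
      by_contra hcon
      push Not at hcon
      exact hne.2 (Subtype.ext (AddMonoidHom.ext hcon))
    obtain ⟨y, hy⟩ := hb
    have h4 : (a : AddMonoid.End E) ((b : AddMonoid.End E) y) = 0 := by
      have := congrArg (fun r : K => (r : AddMonoid.End E) y) hab
      exact this
    exact hne.1 (Subtype.ext (hKi a a.2 _ hy h4))⟩
  haveI : IsDomain K := NoZeroDivisors.to_isDomain K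
  letI : Field K := (Finite.isField_of_domain K).toField
  letI : Module K E := inferInstance
  have hsm : ∀ (r : K) (e : E), r • e = (r : AddMonoid.End E) e := fun _ _ => rfl
  have hnorm : ∀ (d : D) (c : K), ∃ c' : K, ∀ e : E, d • (c • e) = c' • (d • e) := by
    intro d c
    refine ⟨⟨cj E d c, hKd d c c.2⟩, fun e => ?_⟩
    change d • ((c : AddMonoid.End E) e) = d • ((c : AddMonoid.End E) (d⁻¹ • (d • e)))
    rw [inv_smul_smul]
  refine ⟨K, inferInstance, inferInstance, inferInstance, hnorm, fun N hN hNC => ?_⟩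
  have hne : NeZero (Nat.card N : K) := ⟨by
    intro h
    have h1 : Nat.card N • x₀ = 0 := by
      have h2 : (Nat.card N : K) • x₀ = 0 := by rw [h, zero_smul]
      rwa [Nat.cast_smul_eq_nsmul] at h2
    exact hx₀ (not_dvd_of_smul hp hpE (fun h3 => hcop (h3.trans (Subgroup.card_subgroup_dvd_card N))) h1)⟩
  refine csa_of_cen hNC fun x hx hxc => ?_
  have hmem : cent E K N ∈ 𝒦 :=
    ⟨fun a ha b hb => cent_comm ha hb, fun d b hb => cent_cj hnorm hNC d hb, fun r hr v hv hrv =>
      inj_of_reduced hirr hprim (cent E K N) (fun a ha b hb => cent_comm ha hb)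
        (fun d b hb => cent_cj hnorm hNC d hb) (fun z hz h0 => cent_reduced hNC hz h0) hr hv hrv⟩
  have hle : K ≤ cent E K N := by
    intro k hk
    refine mem_cent.2 ⟨algebraMap K _ ⟨k, hk⟩, Subalgebra.algebraMap_mem _ _, fun y _ => ?_, ?_⟩
    · exact (Algebra.commutes _ _).symm
    · exact AddMonoidHom.ext fun e => rfl
  have h1 : cent E K N ≤ K := hK.le_of_ge hmem hle
  have h2 : tau E K x ∈ K := h1 (mem_cent.2 ⟨x, hx, fun y hy => (hxc y hy).symm, rfl⟩)
  exact ⟨⟨tau E K x, h2⟩, LinearMap.ext fun e => rfl⟩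

end Cfsg.Agent.H813.S4790
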