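import Cfsg.Agent.H697.Alm.Defs
import Cfsg.Agent.H717.FieldOf
import Cfsg.Agent.H698.Idem

/-!
# S4790, T3: idempotents, blocks and the semisimple ring generated by a normal subgroup (helper813)

* `one_mem_of_semisimple` : a nonzero two-sided ideal of a semisimple ring without central idempotents is everything;
* `idem_trivial` : for a primitive group the idempotents of a commutative normalised set of endomorphisms are trivial;
* `inj_of_reduced` : a commutative normalised reduced ring of endomorphisms acts by injective maps.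
-/

set_option autoImplicit false

namespace Cfsg.Agent.H813.S4790

open Cfsg.Agent.H717.FieldOf Cfsg.Agent.H697.Alm Cfsg.Agent.H698.Idem

universe u v

/-! ### Semisimple rings -/

theorem eq_zero_of_central_sq {R : Type*} [Ring R] [IsSemisimpleRing R] {z : R} (hz : ∀ r, z * r = r * z)
    (h2 : z * z = 0) : z = 0 := by
  obtain ⟨e, he, hI⟩ := IsSemisimpleRing.ideal_eq_span_idempotent (Ideal.span {z})
  have h1 : e ∈ Ideal.span {z} := by rw [hI]; exact Ideal.mem_span_singleton_self e
  have h3 : z ∈ Ideal.span {e} := by rw [← hI]; exact Ideal.mem_span_singleton_self z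
  obtain ⟨r, hr⟩ := Ideal.mem_span_singleton'.1 h1
  obtain ⟨s, hs⟩ := Ideal.mem_span_singleton'.1 h3
  have h4 : e = 0 := by
    rw [← he.eq, ← hr]
    calc r * z * (r * z) = r * (z * r) * z := by simp only [mul_assoc]
      _ = r * (r * z) * z := by rw [hz]
      _ = r * r * (z * z) := by simp only [mul_assoc]
      _ = 0 := by rw [h2, mul_zero]
  rw [← hs, h4, mul_zero]

theorem one_mem_of_semisimple {R : Type*} [Ring R] [IsSemisimpleRing R]
    (hc : ∀ e : R, IsIdempotentElem e → (∀ r, e * r = r * e) → e = 0 ∨ e = 1) (I : Ideal R)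
    (hI : ∀ y ∈ I, ∀ r, y * r ∈ I) (hne : I ≠ ⊥) : (1 : R) ∈ I := by
  obtain ⟨e, he, hIe⟩ := IsSemisimpleRing.ideal_eq_span_idempotent I
  have heI : e ∈ I := by rw [hIe]; exact Ideal.mem_span_singleton_self e
  -- right identity
  have h1 : ∀ y ∈ I, y * e = y := by
    intro y hy
    rw [hIe] at hy
    obtain ⟨a, rfl⟩ := Ideal.mem_span_singleton'.1 hy
    rw [mul_assoc, he.eq]
  -- left identity
  have h2 : ∀ y ∈ I, e * y = y := by
    intro y hy
    obtain ⟨w, hw⟩ : ∃ w, w = y - e * y := ⟨_, rfl⟩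
    have hwI : w ∈ I := by rw [hw]; exact I.sub_mem hy (I.mul_mem_left e hy)
    have h3 : ∀ z ∈ I, z * w = 0 := by
      intro z hz
      rw [hw, mul_sub, ← mul_assoc, h1 z hz, sub_self]
    obtain ⟨g, hg, hJ⟩ := IsSemisimpleRing.ideal_eq_span_idempotent (Ideal.span {w})
    have h4 : g ∈ Ideal.span {w} := by rw [hJ]; exact Ideal.mem_span_singleton_self g
    obtain ⟨r, hr⟩ := Ideal.mem_span_singleton'.1 h4
    have h5 : g = 0 := by
      rw [← hg.eq, ← hr]
      calc r * w * (r * w) = r * ((w * r) * w) := by simp only [mul_assoc]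
        _ = 0 := by rw [h3 _ (hI w hwI r), mul_zero]
    have h6 : w ∈ Ideal.span {g} := by rw [← hJ]; exact Ideal.mem_span_singleton_self w
    obtain ⟨s, hs⟩ := Ideal.mem_span_singleton'.1 h6
    rw [h5, mul_zero] at hs
    rw [← hs] at hw
    exact (sub_eq_zero.1 hw.symm).symm
  have h3 : ∀ r, e * r = r * e := by
    intro r
    rw [← h1 _ (hI e heI r), ← h2 _ (I.mul_mem_left r heI), mul_assoc]
  rcases hc e he h3 with h4 | h4
  · exfalso
    apply hne
    rw [hIe, h4, Ideal.span_singleton_eq_bot]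
  · rw [← h4]; exact heI

/-! ### Idempotents give blocks -/

variable {D : Type v} {E : Type u} [Group D] [AddCommGroup E] [DistribMulAction D E]

/-- **the idempotents of a commutative normalised set are trivial** -/
theorem idem_trivial [Finite D] [Finite E] (hirr : IrrAct D E) (hprim : Prim D E)
    (B : Set (AddMonoid.End E)) (hBc : ∀ a ∈ B, ∀ b ∈ B, a * b = b * a)
    (hBm : ∀ a ∈ B, ∀ b ∈ B, a * b ∈ B) (hBd : ∀ (d : D), ∀ b ∈ B, cj E d b ∈ B) {e₀ : AddMonoid.End E}
    (he₀ : e₀ ∈ B) (hi₀ : e₀ * e₀ = e₀) : e₀ = 0 ∨ e₀ = 1 := by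
  classical
  by_contra hcon01
  rw [not_or] at hcon01
  obtain ⟨h0, h1⟩ := hcon01
  have hfin : Finite (AddMonoid.End E) := finite_end
  -- a minimal idempotent
  let P : AddMonoid.End E → Prop := fun e => e ∈ B ∧ e * e = e ∧ e ≠ 0
  have hex : ∃ n : ℕ, ∃ e, P e ∧ Nat.card (rg e) = n := ⟨_, e₀, ⟨he₀, hi₀, h0⟩, rfl⟩
  obtain ⟨e, ⟨heB, hei, he0⟩, hen⟩ := Nat.find_spec hex
  have hmin : ∀ g, P g → Nat.card (rg e) ≤ Nat.card (rg g) := by
    intro g hg
    rw [hen]
    exact Nat.find_min' hex ⟨g, hg, rfl⟩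
  have hrange1 : ∀ g : AddMonoid.End E, g * g = g → g ≠ 1 → Nat.card (rg g) < Nat.card E := by
    intro g hg hg1
    rw [← AddSubgroup.card_top (G := E)]
    apply lt_of_le_of_ne (AddSubgroup.card_le_of_le le_top)
    intro h
    have h3 : rg g = ⊤ := AddSubgroup.eq_top_of_card_eq _ (by rw [h, AddSubgroup.card_top])
    apply hg1
    refine AddMonoidHom.ext fun v => ?_
    have h4 : v ∈ rg g := by rw [h3]; trivial
    obtain ⟨w, rfl⟩ := h4
    exact DFunLike.congr_fun hg w
  have he1 : e ≠ 1 := by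
    rintro rfl
    have h3 := hmin e₀ ⟨he₀, hi₀, h0⟩
    have h4 := hrange1 e₀ hi₀ h1
    have h5 : Nat.card (rg (1 : AddMonoid.End E)) = Nat.card E := by
      rw [show rg (1 : AddMonoid.End E) = ⊤ from by rw [eq_top_iff]; exact fun v _ => ⟨v, rfl⟩,
        AddSubgroup.card_top]
    omega
  -- conjugates
  let X : Set (AddMonoid.End E) := Set.range fun d : D => cj E d e
  have hXP : ∀ g ∈ X, g ∈ B ∧ g * g = g ∧ g ≠ 0 ∧ Nat.card (rg g) = Nat.card (rg e) := by
    rintro _ ⟨d, rfl⟩
    refine ⟨hBd d e heB, by rw [← map_mul, hei],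
      fun h => he0 (cj_injective d (h.trans (map_zero (cj E d)).symm)), card_range_cj d e⟩
  have hXd : ∀ (d : D), ∀ g ∈ X, cj E d g ∈ X := by
    rintro d _ ⟨c, rfl⟩
    exact ⟨d * c, cj_mul d c e⟩
  have horth : ∀ g ∈ X, ∀ k ∈ X, g ≠ k → g * k = 0 := by
    intro g hg k hk hne
    by_contra hcon
    obtain ⟨gB, gi, g0, gc⟩ := hXP g hg
    obtain ⟨kB, ki, k0, kc⟩ := hXP k hk
    have hc := hBc g gB k kB
    have hPgk : P (g * k) := by
      refine ⟨hBm g gB k kB, ?_, hcon⟩
      calc g * k * (g * k) = g * (k * g) * k := by simp only [mul_assoc]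
        _ = g * (g * k) * k := by rw [← hc]
        _ = (g * g) * (k * k) := by simp only [mul_assoc]
        _ = g * k := by rw [gi, ki]
    have h3 := hmin _ hPgk
    have hsub1 : rg (g * k) ≤ rg g := by
      rintro _ ⟨v, rfl⟩
      exact ⟨k v, rfl⟩
    have hsub2 : rg (g * k) ≤ rg k := by
      rw [hc]
      rintro _ ⟨v, rfl⟩
      exact ⟨g v, rfl⟩
    have e1 : rg (g * k) = rg g :=
      AddSubgroup.eq_of_le_of_card_ge hsub1 (by rw [gc]; exact h3)
    have e2 : rg (g * k) = rg k :=
      AddSubgroup.eq_of_le_of_card_ge hsub2 (by rw [kc]; exact h3)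
    have e3 : rg g = rg k := e1.symm.trans e2
    apply hne
    have e4 : g * k = k := by
      refine AddMonoidHom.ext fun v => ?_
      have h4 : k v ∈ rg g := by rw [e3]; exact ⟨v, rfl⟩
      obtain ⟨w, hw⟩ := h4
      change g (k v) = k v
      rw [← hw]
      exact DFunLike.congr_fun gi w
    have e5 : k * g = g := by
      refine AddMonoidHom.ext fun v => ?_
      have h4 : g v ∈ rg k := by rw [← e3]; exact ⟨v, rfl⟩
      obtain ⟨w, hw⟩ := h4
      change k (g v) = g v
      rw [← hw]
      exact DFunLike.congr_fun ki w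
    rw [← e5, ← hc, e4]
  have horth' : ∀ g ∈ X, ∀ k ∈ X, g ≠ k → ∀ v, g (k v) = 0 := fun g hg k hk hne v =>
    DFunLike.congr_fun (horth g hg k hk hne) v
  have hidem' : ∀ g ∈ X, ∀ v, g (g v) = g v := fun g hg v => DFunLike.congr_fun (hXP g hg).2.1 v
  have heX : e ∈ X := ⟨1, cj_one e⟩
  -- the sum of the conjugates
  have : Fintype X := Fintype.ofFinite X
  let s : E → E := fun v => ∑ x : X, (x : AddMonoid.End E) v
  have hsd : ∀ (d : D) (v : E), s (d • v) = d • s v := by
    intro d v
    change ∑ x : X, (x : AddMonoid.End E) (d • v) = d • ∑ x : X, (x : AddMonoid.End E) v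
    rw [Finset.smul_sum]
    let f : X → X := fun x => ⟨cj E d x, hXd d x x.2⟩
    have hf : Function.Bijective f := by
      rw [← Finite.injective_iff_bijective]
      intro a b hab
      exact Subtype.ext (cj_injective d (congrArg Subtype.val hab))
    rw [← hf.sum_comp (fun x : X => (x : AddMonoid.End E) (d • v))]
    refine Finset.sum_congr rfl fun x _ => ?_
    exact cj_smul d (x : AddMonoid.End E) v
  have hsg : ∀ (g : X) (v : E), s ((g : AddMonoid.End E) v) = (g : AddMonoid.End E) v := by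
    intro g v
    change ∑ x : X, (x : AddMonoid.End E) ((g : AddMonoid.End E) v) = _
    rw [Finset.sum_eq_single g]
    · exact hidem' g g.2 v
    · intro x _ hx
      exact horth' x x.2 g g.2 (fun h => hx (Subtype.ext h)) v
    · intro h; exact absurd (Finset.mem_univ g) h
  have hsadd : ∀ v w : E, s (v + w) = s v + s w := by
    intro v w
    change ∑ x : X, (x : AddMonoid.End E) (v + w) = _
    rw [Finset.sum_congr rfl fun (x : X) _ => map_add (x : AddMonoid.End E) v w, Finset.sum_add_distrib]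
  let sH : AddMonoid.End E := AddMonoidHom.mk' s hsadd
  have hsH : ∀ v, sH v = s v := fun _ => rfl
  have hs1 : ∀ v : E, s v = v := by
    have hinv : ∀ (d : D), ∀ w ∈ rg sH, d • w ∈ rg sH := by
      rintro d _ ⟨w, rfl⟩
      exact ⟨d • w, by rw [hsH, hsH, hsd]⟩
    have hss : ∀ v, s (s v) = s v := by
      intro v
      change s (∑ x : X, (x : AddMonoid.End E) v) = ∑ x : X, (x : AddMonoid.End E) v
      rw [← hsH, map_sum]
      exact Finset.sum_congr rfl fun x _ => hsg x v
    rcases hirr _ hinv with h3 | h3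
    · exfalso
      apply he0
      refine AddMonoidHom.ext fun v => ?_
      have h4 : e v ∈ rg sH := ⟨e v, hsg ⟨e, heX⟩ v⟩
      rw [h3] at h4
      exact h4
    · intro v
      have h4 : v ∈ rg sH := by rw [h3]; trivial
      obtain ⟨w, rfl⟩ := h4
      exact hss w
  -- the blocks
  let eqv : Fin (Fintype.card X) ≃ X := (Fintype.equivFin X).symm
  let W : Fin (Fintype.card X) → AddSubgroup E := fun i => rg (eqv i : AddMonoid.End E)
  have hWd : ∀ (d : D) (g : AddMonoid.End E) (v : E), v ∈ rg g ↔ d • v ∈ rg (cj E d g) := by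
    intro d g v
    constructor
    · rintro ⟨w, rfl⟩
      exact ⟨d • w, cj_smul d g w⟩
    · rintro ⟨w, hw⟩
      refine ⟨d⁻¹ • w, ?_⟩
      rw [cj_apply'] at hw
      exact (smul_left_cancel d hw)
  have hblk : Blk D E (Fintype.card X) W := by
    refine ⟨?_, ?_, ?_, ?_⟩
    · intro d i
      refine ⟨eqv.symm ⟨cj E d (eqv i : AddMonoid.End E), hXd d _ (eqv i).2⟩, fun v => ?_⟩
      change v ∈ rg (eqv i : AddMonoid.End E) ↔ d • v ∈ rg ((eqv (eqv.symm _) : X) : AddMonoid.End E)
      rw [Equiv.apply_symm_apply]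
      exact hWd d _ v
    · intro i j
      obtain ⟨a, ha⟩ := (eqv i).2
      obtain ⟨b, hb⟩ := (eqv j).2
      refine ⟨b * a⁻¹, fun v => ?_⟩
      change v ∈ rg (eqv i : AddMonoid.End E) ↔ (b * a⁻¹) • v ∈ rg (eqv j : AddMonoid.End E)
      have h3 : (eqv j : AddMonoid.End E) = cj E (b * a⁻¹) (eqv i : AddMonoid.End E) := by
        rw [← ha, ← hb]
        simp only
        rw [← cj_mul]
        group
      rw [h3]
      exact hWd _ _ v
    · intro i h3
      apply (hXP _ (eqv i).2).2.2.1
      refine AddMonoidHom.ext fun v => ?_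
      have h4 : (eqv i : AddMonoid.End E) v ∈ W i := ⟨v, rfl⟩
      rw [h3] at h4
      exact h4
    · intro v
      refine ⟨fun i => (eqv i : AddMonoid.End E) v, ⟨fun i => ⟨v, rfl⟩, ?_⟩, ?_⟩
      · rw [← hs1 v]
        change ∑ i, (eqv i : AddMonoid.End E) (s v) = s v
        rw [hs1 v]
        exact (eqv.sum_comp (fun x : X => (x : AddMonoid.End E) v)).trans (hs1 v)
      · rintro c ⟨hc1, hc2⟩
        funext k
        rw [← hc2, map_sum, Finset.sum_eq_single k]
        · obtain ⟨w, hw⟩ := hc1 k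
          rw [← hw]
          exact (hidem' _ (eqv k).2 w).symm
        · intro i _ hik
          obtain ⟨w, hw⟩ := hc1 i
          rw [← hw]
          exact horth' _ (eqv k).2 _ (eqv i).2 (fun h => hik (eqv.injective (Subtype.ext h)).symm) w
        · intro h; exact absurd (Finset.mem_univ k) h
  have hle := hprim _ W hblk
  -- only one conjugate
  apply he1
  have hsub : Subsingleton X := Fintype.card_le_one_iff_subsingleton.1 hle
  refine AddMonoidHom.ext fun v => ?_
  have h3 := hs1 v
  change ∑ x : X, (x : AddMonoid.End E) v = v at h3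
  rw [Fintype.sum_eq_single (⟨e, heX⟩ : X) (fun x hx => absurd (Subsingleton.elim _ _) hx)] at h3
  exact h3

/-- **a reduced commutative normalised ring acts by injective maps** -/
theorem inj_of_reduced [Finite D] [Finite E] (hirr : IrrAct D E) (hprim : Prim D E)
    (L : Subring (AddMonoid.End E)) (hLc : ∀ a ∈ L, ∀ b ∈ L, a * b = b * a)
    (hLd : ∀ (d : D), ∀ b ∈ L, cj E d b ∈ L) (hred : ∀ z ∈ L, z * z = 0 → z = 0) {r : AddMonoid.End E}
    (hr : r ∈ L) {v : E} (hv : v ≠ 0) (hrv : r v = 0) : r = 0 := by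
  have hfin : Finite (AddMonoid.End E) := finite_end
  by_contra hr0
  -- powers are nonzero
  have hpow : ∀ n : ℕ, r ^ n ≠ 0 := by
    have h2 : ∀ k : ℕ, r ^ (2 ^ k) ≠ 0 := by
      intro k
      induction k with
      | zero => rw [pow_zero, pow_one]; exact hr0
      | succ k ih =>
        intro h
        apply ih
        apply hred _ (pow_mem hr _)
        rw [← pow_add, ← two_mul, ← pow_succ']
        exact h
    intro n h
    apply h2 n
    obtain ⟨c, hc⟩ : ∃ c, 2 ^ n = n + c := ⟨2 ^ n - n, by have := (Nat.lt_two_pow_self (n := n)).le; omega⟩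
    rw [hc, pow_add, h, zero_mul]
  obtain ⟨a, b, hab, he⟩ := Finite.exists_ne_map_eq_of_infinite (fun n : ℕ => r ^ n)
  wlog hlt : a < b generalizing a b
  · exact this b a hab.symm he.symm (by omega)
  obtain ⟨c, rfl⟩ : ∃ c, b = a + (c + 1) := ⟨b - a - 1, by omega⟩
  have h1 : ∀ n, a ≤ n → r ^ (n + (c + 1)) = r ^ n := by
    intro n hn
    obtain ⟨m, rfl⟩ := Nat.exists_eq_add_of_le hn
    rw [show a + m + (c + 1) = m + (a + (c + 1)) by ring, pow_add, ← he, ← pow_add, add_comm]
  have h2 : ∀ (k n : ℕ), a ≤ n → r ^ (n + k * (c + 1)) = r ^ n := by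
    intro k
    induction k with
    | zero => intro n _; rw [zero_mul, add_zero]
    | succ k ih =>
      intro n hn
      rw [show n + (k + 1) * (c + 1) = (n + k * (c + 1)) + (c + 1) by ring, h1 _ (by omega), ih n hn]
  let e := r ^ ((a + 1) * (c + 1))
  have hee : e * e = e := by
    change r ^ ((a + 1) * (c + 1)) * r ^ ((a + 1) * (c + 1)) = _
    rw [← pow_add]
    exact h2 (a + 1) _ (by nlinarith)
  have heL : e ∈ L := pow_mem hr _
  rcases idem_trivial hirr hprim (L : Set (AddMonoid.End E)) hLc (fun a ha b hb => mul_mem ha hb) hLd heL hee with h3 | h3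
  · exact hpow _ h3
  · have h4 : e v = 0 := by
      change (r ^ ((a + 1) * (c + 1))) v = 0
      have h5 : 0 < (a + 1) * (c + 1) := by positivity
      obtain ⟨m, hm⟩ : ∃ m, (a + 1) * (c + 1) = m + 1 := ⟨(a + 1) * (c + 1) - 1, by omega⟩
      rw [hm, pow_succ]
      change (r ^ m) (r v) = 0
      rw [hrv, map_zero]
    rw [h3] at h4
    exact hv h4

end Cfsg.Agent.H813.S4790
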